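import Mathlib

/-! Small algebra for the moving lemma and double covers. -/

universe u v

namespace Groth.Agent.MovLemLib

open Finset

theorem mem_range_of_primes_surjective
    (A B K L : Type u) [CommRing A] [IsDomain A] [IsNoetherianRing A] [IsIntegrallyClosed A]
    [CommRing B] [IsDomain B] [Field K] [Field L]
    [Algebra A B] [Algebra A K] [IsFractionRing A K] [Algebra B L] [IsFractionRing B L]
    [Algebra K L] [Algebra A L] [IsScalarTower A K L] [IsScalarTower A B L]
    (hsurj : ∀ p : Ideal A, p.IsPrime → ∃ q : Ideal B, q.IsPrime ∧ q.comap (algebraMap A B) = p)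
    (a : K) (ha : algebraMap K L a ∈ (algebraMap B L).range) :
    a ∈ (algebraMap A K).range := by
  classical
  by_contra hna
  let den : K → Ideal A := fun x =>
    (LinearMap.range (Algebra.linearMap A K)).comap (LinearMap.toSpanSingleton A K x)
  have hden : ∀ (x : K) (c : A), c ∈ den x ↔ c • x ∈ (algebraMap A K).range := fun x c => Iff.rfl
  let S : Set (Ideal A) :=
    {J | ∃ c : A, c • a ∉ (algebraMap A K).range ∧ J = den (c • a)}
  obtain ⟨p, ⟨c, hc, rfl⟩, hmax⟩ :=
    set_has_maximal_iff_noetherian.mpr inferInstance S ⟨den a, 1, by rwa [one_smul], by rw [one_smul]⟩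
  set a' := c • a with ha'
  have hne : den a' ≠ ⊤ := fun h => hc (by
    have : (1 : A) • a' ∈ (algebraMap A K).range := (hden _ _).mp ((den a').eq_top_iff_one.mp h)
    rwa [one_smul] at this)
  have hp : (den a').IsPrime := ⟨hne, fun {x y} hxy => by
    by_contra! h
    obtain ⟨hx, hy⟩ := h
    have hxS : den (x • a') ∈ S := ⟨x * c, by rw [mul_smul]; exact hx, by rw [mul_smul]⟩
    have hle : den a' ≤ den (x • a') := fun z hz => by
      rw [hden] at hz ⊢
      rw [smul_comm, Algebra.smul_def x]
      exact mul_mem ⟨x, rfl⟩ hz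
    refine hmax _ hxS (lt_of_le_of_ne hle fun heq => hy ?_)
    rw [heq, hden]
    rw [smul_smul, mul_comm]
    exact (hden _ _).mp hxy⟩
  have ha'B : algebraMap K L a' ∈ (algebraMap B L).range := by
    obtain ⟨b, hb⟩ := ha
    refine ⟨algebraMap A B c * b, ?_⟩
    rw [ha', Algebra.smul_def, map_mul, map_mul, hb, ← IsScalarTower.algebraMap_apply A B L,
      ← IsScalarTower.algebraMap_apply A K L]
  by_cases hstab : ∀ u ∈ den a', ∃ v ∈ den a', algebraMap A K v = u • a'
  · obtain ⟨⟨x, s⟩, hxs⟩ := IsLocalization.surj (nonZeroDivisors A) a'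
    have hs : (s : A) ∈ den a' := (hden _ _).mpr ⟨x, by
      rw [Algebra.smul_def, mul_comm]
      exact hxs.symm⟩
    let N : Submodule A K := Submodule.map (Algebra.linearMap A K) (den a')
    have hint : IsIntegral A a' := by
      refine isIntegral_of_smul_mem_submodule N ?_ ((IsNoetherian.noetherian (den a')).map _) a' ?_
      · intro h
        have h0 : algebraMap A K s ∈ N := ⟨s, hs, rfl⟩
        rw [h, Submodule.mem_bot] at h0
        exact nonZeroDivisors.ne_zero s.2 (IsFractionRing.injective A K (by rwa [map_zero]))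
      · rintro _ ⟨u, hu, rfl⟩
        obtain ⟨v, hv, huv⟩ := hstab u hu
        refine ⟨v, hv, ?_⟩
        rw [Algebra.linearMap_apply, huv, smul_eq_mul, Algebra.linearMap_apply, Algebra.smul_def,
          mul_comm]
    obtain ⟨y, hy⟩ := IsIntegrallyClosed.isIntegral_iff.mp hint
    exact hc ⟨y, hy⟩
  · push Not at hstab
    obtain ⟨u, hu, hu'⟩ := hstab
    obtain ⟨v, hv⟩ := (show u • a' ∈ (algebraMap A K).range from hu)
    have hvp : v ∉ den a' := fun h => hu' v h hv
    obtain ⟨q, hq, hqp⟩ := hsurj _ hp
    obtain ⟨b, hb⟩ := ha'B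
    have heq : algebraMap A B u * b = algebraMap A B v := by
      apply IsFractionRing.injective B L
      rw [map_mul, hb, ← IsScalarTower.algebraMap_apply A B L, ← IsScalarTower.algebraMap_apply A B L,
        IsScalarTower.algebraMap_apply A K L, IsScalarTower.algebraMap_apply A K L, ← map_mul, hv,
        Algebra.smul_def]
    apply hvp
    rw [← hqp, Ideal.mem_comap, ← heq]
    exact q.mul_mem_right _ (by rw [← Ideal.mem_comap, hqp]; exact hu)

theorem isIntegral_div_iff {A : Type u} [CommRing A] (p : Ideal A) [p.IsPrime] (ζ u : A)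
    (hu : u ∉ p) :
    IsIntegral (A ⧸ p)
        (algebraMap (A ⧸ p) (FractionRing (A ⧸ p)) (Ideal.Quotient.mk p ζ) /
          algebraMap (A ⧸ p) (FractionRing (A ⧸ p)) (Ideal.Quotient.mk p u)) ↔
      ∃ (N : ℕ) (a : ℕ → A),
        ζ ^ N + ∑ i ∈ Finset.Icc 1 N, a i * ζ ^ (N - i) * u ^ i ∈ p := by
  classical
  set g := algebraMap (A ⧸ p) (FractionRing (A ⧸ p))
  have hg : Function.Injective g := IsFractionRing.injective _ _
  set U := g (Ideal.Quotient.mk p u)
  set Z := g (Ideal.Quotient.mk p ζ)
  have hU : U ≠ 0 := fun h => hu (Ideal.Quotient.eq_zero_iff_mem.mp (hg (by rwa [map_zero])))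
  have key : ∀ (N : ℕ) (a : ℕ → A),
      (ζ ^ N + ∑ i ∈ Icc 1 N, a i * ζ ^ (N - i) * u ^ i ∈ p) ↔
        (Z / U) ^ N + ∑ i ∈ Icc 1 N, g (Ideal.Quotient.mk p (a i)) * (Z / U) ^ (N - i) = 0 := by
    intro N a
    rw [← Ideal.Quotient.eq_zero_iff_mem, ← hg.eq_iff, map_zero]
    simp only [map_add, map_sum, map_mul, map_pow]
    have h1 : U ^ N * ((Z / U) ^ N + ∑ i ∈ Icc 1 N, g (Ideal.Quotient.mk p (a i)) * (Z / U) ^ (N - i))
        = Z ^ N + ∑ i ∈ Icc 1 N, g (Ideal.Quotient.mk p (a i)) * Z ^ (N - i) * U ^ i := by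
      rw [mul_add, ← mul_pow, mul_div_cancel₀ _ hU, mul_sum]
      congr 1
      refine sum_congr rfl fun i hi => ?_
      rw [mem_Icc] at hi
      obtain ⟨k, rfl⟩ : ∃ k, N = i + k := ⟨N - i, by omega⟩
      obtain ⟨W, hW⟩ : ∃ W, Z = W * U := ⟨Z / U, (div_mul_cancel₀ Z hU).symm⟩
      rw [hW, mul_div_cancel_right₀ _ hU, Nat.add_sub_cancel_left]
      ring
    rw [← h1, mul_eq_zero, or_iff_right (pow_ne_zero _ hU)]
  constructor
  · rintro ⟨P, hP, hP0⟩
    refine ⟨P.natDegree, fun i => (Ideal.Quotient.mk_surjective (P.coeff (P.natDegree - i))).choose,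
      (key _ _).mpr ?_⟩
    rw [Polynomial.eval₂_eq_sum_range, sum_range_succ, hP.coeff_natDegree, map_one, one_mul,
      add_comm] at hP0
    rw [← hP0]
    congr 1
    refine sum_nbij' (fun i => P.natDegree - i) (fun j => P.natDegree - j) ?_ ?_ ?_ ?_ ?_
    · intro i hi; simp at hi ⊢; omega
    · intro i hi; simp at hi ⊢; omega
    · intro i hi; simp at hi; omega
    · intro i hi; simp at hi; omega
    · intro i hi
      rw [(Ideal.Quotient.mk_surjective (P.coeff (P.natDegree - i))).choose_spec]
  · rintro ⟨N, a, h⟩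
    rw [key] at h
    refine ⟨Polynomial.X ^ N +
      ∑ i ∈ Icc 1 N, Polynomial.C (Ideal.Quotient.mk p (a i)) * Polynomial.X ^ (N - i), ?_, ?_⟩
    · refine Polynomial.monic_X_pow_add ((Polynomial.degree_sum_le _ _).trans_lt ?_)
      refine (Finset.sup_lt_iff (WithBot.bot_lt_coe N)).mpr fun i hi => ?_
      refine (Polynomial.degree_C_mul_X_pow_le _ _).trans_lt ?_
      rw [mem_Icc] at hi
      exact Nat.cast_lt.mpr (by omega)
    · simpa [Polynomial.eval₂_finsetSum] using h

theorem exists_trace_involution {A : Type u} {B : Type v} [CommRing A] [CommRing B]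
    [Algebra A B] (h2 : IsUnit (2 : A)) [Module.Free A B] [Module.Finite A B]
    (hrk : Module.finrank A B = 2)
    [Module.Free A (LinearMap.ker (Algebra.trace A B))]
    (hker : Module.finrank A (LinearMap.ker (Algebra.trace A B)) = 1) :
    ∃ σ : B →ₐ[A] B, (∀ b : B, σ b = algebraMap A B (Algebra.trace A B b) - b) ∧
      σ ≠ AlgHom.id A B ∧ σ.comp σ = AlgHom.id A B ∧
      ∀ b : B, σ b = b ↔ b ∈ Set.range (algebraMap A B) := by
  classical
  cases subsingleton_or_nontrivial A with
  | inl h =>
    exfalso
    haveI := Module.subsingleton A (LinearMap.ker (Algebra.trace A B))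
    haveI := Module.subsingleton A B
    rw [Module.finrank_subsingleton] at hrk
    omega
  | inr h =>
  obtain ⟨t, ht⟩ := h2
  set tr := Algebra.trace A B
  have htr : ∀ a : A, tr (algebraMap A B a) = 2 * a := fun a => by
    rw [Algebra.trace_algebraMap, hrk, two_smul, two_mul]
  haveI : Module.Finite A (LinearMap.ker tr) := Module.finite_of_finrank_eq_succ hker
  let bK := Module.finBasisOfFinrankEq A (LinearMap.ker tr) hker
  let e : B := (bK 0 : LinearMap.ker tr)
  have he : tr e = 0 := (bK 0).2
  have hinv : ∀ a : A, 2 * ((↑t⁻¹ : A) * a) = a := fun a => by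
    rw [← mul_assoc, ← ht, t.mul_inv, one_mul]
  have hspan : ∀ b : B, ∃ c : A, b = algebraMap A B ((↑t⁻¹ : A) * tr b) + c • e := fun b => by
    have hmem : b - algebraMap A B ((↑t⁻¹ : A) * tr b) ∈ LinearMap.ker tr := by
      rw [LinearMap.mem_ker, map_sub, htr, hinv, sub_self]
    refine ⟨bK.repr ⟨_, hmem⟩ 0, ?_⟩
    have := congrArg Subtype.val (bK.sum_repr ⟨_, hmem⟩)
    simp only [Fin.sum_univ_one, Submodule.coe_smul] at this
    change bK.repr ⟨_, hmem⟩ 0 • e = _ at this
    rw [this, add_sub_cancel]
  have hli : ∀ a c : A, algebraMap A B a + c • e = 0 → a = 0 ∧ c = 0 := fun a c h => by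
    have h1 := congrArg tr h
    rw [map_add, map_smul, htr, he, smul_zero, add_zero, map_zero] at h1
    have ha : a = 0 := by
      have := congrArg ((↑t⁻¹ : A) * ·) h1
      simpa [← mul_assoc, ← ht] using this
    refine ⟨ha, ?_⟩
    rw [ha, map_zero, zero_add] at h
    have h3 : c • bK 0 = 0 := Subtype.ext (by simpa using h)
    have := congrArg (fun z => bK.repr z 0) h3
    simpa using this
  have hy : ∃ x : A, e * e = algebraMap A B x := by
    obtain ⟨y, hy⟩ := hspan (e * e)
    set x := (↑t⁻¹ : A) * tr (e * e)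
    let w : Fin 2 → B := ![1, e]
    have hwli : LinearIndependent A w := by
      rw [LinearIndependent.pair_iff]
      intro r s hrs
      exact hli r s (by rwa [Algebra.algebraMap_eq_smul_one])
    have hwsp : ⊤ ≤ Submodule.span A (Set.range w) := fun b _ => by
      obtain ⟨c, hc⟩ := hspan b
      rw [hc, Algebra.algebraMap_eq_smul_one]
      exact add_mem (Submodule.smul_mem _ _ (Submodule.subset_span ⟨0, rfl⟩))
        (Submodule.smul_mem _ _ (Submodule.subset_span ⟨1, rfl⟩))
    let bw := Module.Basis.mk hwli hwsp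
    have h1 := Algebra.trace_eq_matrix_trace bw e
    have e0 : bw.repr (e * w 0) 0 = 0 := by
      have : e * w 0 = bw 1 := by simp [bw, w]
      rw [this, Module.Basis.repr_self]; simp
    have e1 : bw.repr (e * w 1) 1 = y := by
      have : e * w 1 = x • bw 0 + y • bw 1 := by
        show e * e = _
        rw [hy, Algebra.algebraMap_eq_smul_one]
        simp [bw, w]
      rw [this, map_add, map_smul, map_smul, Module.Basis.repr_self, Module.Basis.repr_self]
      simp
    rw [Matrix.trace, Fin.sum_univ_two, Matrix.diag_apply, Matrix.diag_apply,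
      Algebra.leftMulMatrix_eq_repr_mul, Algebra.leftMulMatrix_eq_repr_mul,
      Module.Basis.mk_apply, Module.Basis.mk_apply, e0, e1, he, zero_add] at h1
    exact ⟨x, by rw [hy, ← h1, zero_smul, add_zero]⟩
  obtain ⟨x, hx⟩ := hy
  let σl : B →ₗ[A] B := (Algebra.linearMap A B).comp tr - LinearMap.id
  have hσ : ∀ b, σl b = algebraMap A B (tr b) - b := fun b => rfl
  have hσf : ∀ a c : A, σl (algebraMap A B a + c • e) = algebraMap A B a - c • e := fun a c => by
    rw [hσ, map_add, map_smul, htr, he, smul_zero, add_zero, two_mul, map_add]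
    ring
  have hmulf : ∀ b b', σl (b * b') = σl b * σl b' := fun b b' => by
    obtain ⟨c, hc⟩ := hspan b
    obtain ⟨c', hc'⟩ := hspan b'
    set a := (↑t⁻¹ : A) * tr b
    set a' := (↑t⁻¹ : A) * tr b'
    have hprod : b * b' = algebraMap A B (a * a' + c * c' * x) + (a * c' + c * a') • e := by
      rw [hc, hc']
      simp only [Algebra.smul_def, map_add, map_mul]
      linear_combination (algebraMap A B c * algebraMap A B c') * hx
    rw [hprod, hσf, hc, hc', hσf, hσf]
    simp only [Algebra.smul_def, map_add, map_mul]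
    linear_combination -(algebraMap A B c * algebraMap A B c') * hx
  refine ⟨AlgHom.ofLinearMap σl ?_ hmulf, fun b => rfl, ?_, ?_, fun b => ?_⟩
  · rw [hσ, ← map_one (algebraMap A B), htr, ← map_sub]
    congr 1
    ring
  · intro h
    have h1 := DFunLike.congr_fun h e
    simp only [AlgHom.ofLinearMap_apply, AlgHom.id_apply, hσ, he, map_zero, zero_sub] at h1
    have h2' : algebraMap A B 0 + (2 : A) • e = 0 := by
      rw [map_zero, zero_add, two_smul]
      nth_rewrite 1 [← h1]
      rw [neg_add_cancel]
    exact (ht ▸ t.ne_zero) (hli _ _ h2').2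
  · refine AlgHom.ext fun b => ?_
    show σl (σl b) = b
    obtain ⟨c, hc⟩ := hspan b
    rw [hc, hσf, sub_eq_add_neg, ← neg_smul, hσf, neg_smul, sub_neg_eq_add]
  · constructor
    · intro h
      refine ⟨(↑t⁻¹ : A) * tr b, ?_⟩
      obtain ⟨c, hc⟩ := hspan b
      rw [AlgHom.ofLinearMap_apply, hc, hσf] at h
      have h' : algebraMap A B 0 + (2 * c) • e = 0 := by
        rw [map_zero, zero_add, two_mul, add_smul]
        linear_combination -h
      have hc0 : c = 0 := by
        have := congrArg ((↑t⁻¹ : A) * ·) (hli _ _ h').2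
        simpa [← mul_assoc, ← ht] using this
      rw [hc0, zero_smul, add_zero] at hc
      exact hc.symm
    · rintro ⟨a, rfl⟩
      rw [AlgHom.ofLinearMap_apply, hσ, htr, two_mul, map_add, add_sub_cancel_right]

section Path

open Matrix

variable {K : Type u} [Field K] {n : Type} [Fintype n] [DecidableEq n]

/-- Joined to the identity by a polynomial path in the special linear group. -/
def PathTo (M : Matrix n n K) : Prop :=
  ∃ P : Matrix n n (Polynomial K), P.det = 1 ∧ P.map (Polynomial.evalRingHom 0) = 1 ∧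
    P.map (Polynomial.evalRingHom 1) = M

theorem pathTo_one : PathTo (1 : Matrix n n K) :=
  ⟨1, det_one, Matrix.map_one _ (map_zero _) (map_one _), Matrix.map_one _ (map_zero _) (map_one _)⟩

theorem PathTo.mul {M N : Matrix n n K} (hM : PathTo M) (hN : PathTo N) : PathTo (M * N) := by
  obtain ⟨P, hP, hP0, hP1⟩ := hM
  obtain ⟨Q, hQ, hQ0, hQ1⟩ := hN
  exact ⟨P * Q, by rw [det_mul, hP, hQ, mul_one], by rw [Matrix.map_mul, hP0, hQ0, mul_one],
    by rw [Matrix.map_mul, hP1, hQ1]⟩

theorem pathTo_transvection {i j : n} (h : i ≠ j) (c : K) : PathTo (transvection i j c) := by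
  refine ⟨transvection i j (Polynomial.C c * Polynomial.X), det_transvection_of_ne i j h _, ?_, ?_⟩
  all_goals
    ext a b
    simp only [Matrix.map_apply, transvection, Matrix.add_apply, Matrix.one_apply, Matrix.single]
    simp [apply_ite (Polynomial.eval _)]

theorem whitehead {i j : n} (h : i ≠ j) (a : K) (ha : a ≠ 0) :
    transvection i j a * transvection j i (-a⁻¹) * transvection i j a *
      (transvection i j (-1) * transvection j i (1 : K) * transvection i j (-1)) =
      diagonal (Function.update (Function.update 1 i a) j a⁻¹) := by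
  simp only [Matrix.mul_assoc]
  ext x y
  rcases eq_or_ne x i with rfl | hxi
  · rcases eq_or_ne y x with rfl | hyi
    · simp [transvection, Matrix.add_mul, Matrix.mul_add, h, h.symm, Matrix.one_apply, Matrix.single_apply, Matrix.diagonal_apply, Function.update_apply, ha]
    rcases eq_or_ne j y with rfl | hyj <;>
      simp [transvection, Matrix.add_mul, Matrix.mul_add, h, h.symm, Matrix.one_apply, Matrix.single_apply, Matrix.diagonal_apply, Function.update_apply, Ne.symm hyi, hyi, *]
  rcases eq_or_ne x j with rfl | hxj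
  · rcases eq_or_ne y i with rfl | hyi
    · simp [transvection, Matrix.add_mul, Matrix.mul_add, h, h.symm, Matrix.one_apply, Matrix.single_apply, Matrix.diagonal_apply, Function.update_apply, ha]
    rcases eq_or_ne x y with rfl | hyj <;>
      simp [transvection, Matrix.add_mul, Matrix.mul_add, h, h.symm, Matrix.one_apply, Matrix.single_apply, Matrix.diagonal_apply, Function.update_apply, Ne.symm hyi, hyi, *]
  rcases eq_or_ne x y with rfl | hxy <;>
    simp [transvection, Matrix.add_mul, Matrix.mul_add, h, h.symm, Matrix.one_apply, Matrix.single_apply, Matrix.diagonal_apply, Function.update_apply, hxi, hxj,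
      Ne.symm hxi, Ne.symm hxj, *]

theorem pathTo_diagonal_pair {i j : n} (h : i ≠ j) (a : K) (ha : a ≠ 0) :
    PathTo (diagonal (Function.update (Function.update (1 : n → K) i a) j a⁻¹)) := by
  rw [← whitehead h a ha]
  exact (((pathTo_transvection h _).mul (pathTo_transvection h.symm _)).mul (pathTo_transvection h _)).mul
    (((pathTo_transvection h _).mul (pathTo_transvection h.symm _)).mul (pathTo_transvection h _))

theorem pathTo_diagonal (o : n) (D : n → K) (hD : ∏ i, D i = 1) : PathTo (diagonal D) := by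
  have hne : ∀ i, D i ≠ 0 := fun i h0 => one_ne_zero (α := K) (hD ▸ Finset.prod_eq_zero (mem_univ i) h0)
  have key : ∀ s : Finset n, o ∉ s →
      PathTo (diagonal fun x => if x ∈ s then D x else if x = o then (∏ i ∈ s, D i)⁻¹ else 1) := by
    intro s
    induction s using Finset.induction_on with
    | empty =>
      intro _
      simpa using pathTo_one (K := K) (n := n)
    | insert k s hk ih =>
      intro ho
      rw [Finset.mem_insert, not_or] at ho
      convert (ih ho.2).mul (pathTo_diagonal_pair (Ne.symm ho.1) (D k) (hne k)) using 1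
      rw [diagonal_mul_diagonal]
      congr 1
      funext x
      rcases eq_or_ne x k with rfl | hxk
      · simp [hk, Ne.symm ho.1, ho.1]
      rcases eq_or_ne x o with rfl | hxo
      · simp [hxk, ho.2, hk, mul_comm]
      · simp [hxk, hxo]
  convert key (univ.erase o) (Finset.notMem_erase o _) using 2
  funext x
  rcases eq_or_ne x o with rfl | hx
  · simp only [Finset.notMem_erase, if_false, if_true]
    refine eq_inv_of_mul_eq_one_left ?_
    rw [Finset.mul_prod_erase _ _ (mem_univ x), hD]
  · simp [hx]

theorem pathTo_of_det_eq_one (o : n) (M : Matrix n n K) (hM : M.det = 1) : PathTo M := by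
  obtain ⟨L, L', D, rfl⟩ := Pivot.exists_list_transvec_mul_diagonal_mul_list_transvec M
  rw [det_mul, det_mul, TransvectionStruct.det_toMatrix_prod, TransvectionStruct.det_toMatrix_prod,
    det_diagonal, one_mul, mul_one] at hM
  have hL : ∀ L : List (TransvectionStruct n K), PathTo (L.map TransvectionStruct.toMatrix).prod := by
    intro L
    induction L with
    | nil => exact pathTo_one
    | cons t L ih => exact (pathTo_transvection t.hij t.c).mul ih
  exact ((hL L).mul (pathTo_diagonal o D hM)).mul (hL L')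

end Path

end Groth.Agent.MovLemLib
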